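import Groth.Prelude.Def_CechEdge
import Groth.Prelude.Def_DeltaF
import Groth.Agent.Hypercov.SS
import Groth.Agent.SiteCoh.CechSS
import Mathlib.Algebra.Homology.DerivedCategory.Ext.ExactSequences

/-! # Čech cohomology and sheaf cohomology as delta-functors of abelian presheaves -/

set_option autoImplicit false
set_option linter.all false
set_option backward.isDefEq.respectTransparency false
set_option backward.defeqAttrib.useBackward true

universe u

open CategoryTheory CategoryTheory.Limits CategoryTheory.Abelian Opposite AlgebraicTopology Simplicial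

namespace Groth.Agent.EdgeMap

open Groth.Agent

variable {C : Type u} [SmallCategory C] [HasPullbacks C] {U : C} {ι : Type u} (Y : ι → Over U)

/-- restriction to `C/U` -/
noncomputable abbrev resPre : (Cᵒᵖ ⥤ AddCommGrpCat.{u}) ⥤ ((Over U)ᵒᵖ ⥤ AddCommGrpCat.{u}) :=
  (Functor.whiskeringLeft (Over U)ᵒᵖ Cᵒᵖ AddCommGrpCat.{u}).obj (Over.forget U).op

/-- the nerve -/
noncomputable abbrev nerveFam : SimplicialObject (FormalCoproduct.{u} (Over U)) := (FormalCoproduct.mk _ Y).cech

/-- the Čech complex functor, decomposed -/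
noncomputable abbrev cxF : (Cᵒᵖ ⥤ AddCommGrpCat.{u}) ⥤ CochainComplex AddCommGrpCat.{u} ℕ :=
  resPre ⋙ Hypercov.preF (nerveFam Y) ⋙ Hypercov.altC

lemma cxF_eq : cxF Y = CechEdge.cxFunctor Y := rfl

instance additive_cxF : (cxF Y).Additive := inferInstance

theorem shortExact_cx {S : ShortComplex (Cᵒᵖ ⥤ AddCommGrpCat.{u})} (hS : S.ShortExact) :
    (S.map (CechEdge.cxFunctor Y)).ShortExact := by
  haveI : PreservesFiniteLimits (Hypercov.preF (nerveFam Y)) := Functor.preservesFiniteLimits_of_preservesHomology _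
  haveI : PreservesFiniteColimits (Hypercov.preF (nerveFam Y)) := Functor.preservesFiniteColimits_of_preservesHomology _
  exact Hypercov.altC_shortExact ((hS.map_of_exact resPre).map_of_exact (Hypercov.preF (nerveFam Y)))

/-- Čech cohomology as a delta-functor -/
noncomputable def cechT : DeltaF.CohDeltaFunctor (Cᵒᵖ ⥤ AddCommGrpCat.{u}) AddCommGrpCat.{u} ℕ where
  F n := cxF Y ⋙ HomologicalComplex.homologyFunctor _ _ n
  additive n := inferInstance
  δ S hS n₀ n₁ h := (shortExact_cx Y hS).δ n₀ n₁ h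
  δ_natural {S S'} hS hS' φ n₀ n₁ h :=
    (HomologicalComplex.HomologySequence.δ_naturality ((CechEdge.cxFunctor Y).mapShortComplex.map φ)
      (shortExact_cx Y hS) (shortExact_cx Y hS') n₀ n₁ h).symm
  exact₂ S hS n := (shortExact_cx Y hS).homology_exact₂ n
  comp_δ S hS n₀ n₁ h := (shortExact_cx Y hS).comp_δ n₀ n₁ h
  exact₃ S hS n₀ n₁ h := (shortExact_cx Y hS).homology_exact₃ n₀ n₁ h
  δ_comp S hS n₀ n₁ h := (shortExact_cx Y hS).δ_comp n₀ n₁ h
  exact₁ S hS n₀ n₁ h := (shortExact_cx Y hS).homology_exact₁ n₀ n₁ h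

variable (J : GrothendieckTopology C) (U)

/-- cohomology of the associated sheaf at `U` -/
noncomputable abbrev hFun (n : ℕ) : (Cᵒᵖ ⥤ AddCommGrpCat.{u}) ⥤ AddCommGrpCat.{u} :=
  presheafToSheaf J AddCommGrpCat.{u} ⋙ Sheaf.cohomologyPresheafFunctor J n ⋙
    (evaluation Cᵒᵖ AddCommGrpCat.{u}).obj (op U)

lemma hFun_map (n : ℕ) {P Q : Cᵒᵖ ⥤ AddCommGrpCat.{u}} (φ : P ⟶ Q)
    (x : Ext.{u} (CohCx.freeSheaf J U) (CechEdge.shf J P) n) :
    (hFun U J n).map φ x = x.comp (Ext.mk₀ (CechEdge.shfMap J φ)) (add_zero n) := rfl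

/-- sheaf cohomology of associated sheaves as a delta-functor -/
noncomputable def shT : DeltaF.CohDeltaFunctor (Cᵒᵖ ⥤ AddCommGrpCat.{u}) AddCommGrpCat.{u} ℕ where
  F n := hFun U J n
  additive n :=
    { map_add := fun {P Q f g} => by
        ext x
        show (hFun U J n).map (f + g) x = (hFun U J n).map f x + (hFun U J n).map g x
        rw [hFun_map, hFun_map, hFun_map]
        exact (congrArg (fun m => Ext.comp x (Ext.mk₀ m) (add_zero n)) (Functor.map_add _)).trans
          ((congrArg (fun m => Ext.comp x m (add_zero n)) (Ext.mk₀_add _ _)).trans (Ext.comp_add _ _ _ _)) }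
  δ S hS n₀ n₁ h := AddCommGrpCat.ofHom
    ((hS.map_of_exact (presheafToSheaf J AddCommGrpCat.{u})).extClass.postcomp (CohCx.freeSheaf J U) h)
  δ_natural {S S'} hS hS' φ n₀ n₁ h := by
    ext x
    show ((hFun U J n₀).map φ.τ₃ x).comp (hS'.map_of_exact (presheafToSheaf J AddCommGrpCat.{u})).extClass h =
      (hFun U J n₁).map φ.τ₁ (Ext.comp x (hS.map_of_exact (presheafToSheaf J AddCommGrpCat.{u})).extClass h)
    rw [hFun_map, hFun_map]
    rw [Ext.comp_assoc _ _ _ (add_zero n₀) (zero_add 1) (by omega),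
      Ext.comp_assoc _ _ _ h (add_zero 1) (by omega)]
    exact congrArg (fun m => Ext.comp x m h) (ShortComplex.ShortExact.extClass_naturality
      (hS.map_of_exact _) (hS'.map_of_exact _) ((presheafToSheaf J AddCommGrpCat.{u}).mapShortComplex.map φ)).symm
  exact₂ S hS n := Ext.covariant_sequence_exact₂' _ (hS.map_of_exact (presheafToSheaf J AddCommGrpCat.{u})) n
  comp_δ S hS n₀ n₁ h := by
    ext x
    show Ext.comp ((hFun U J n₀).map S.g x) (hS.map_of_exact (presheafToSheaf J AddCommGrpCat.{u})).extClass h = 0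
    rw [hFun_map]
    exact (Ext.comp_assoc _ _ _ (add_zero n₀) (zero_add 1) (by omega)).trans
      ((congrArg (fun m => Ext.comp x m h) (hS.map_of_exact (presheafToSheaf J AddCommGrpCat.{u})).comp_extClass).trans (Ext.comp_zero _ _ _ _ _))
  exact₃ S hS n₀ n₁ h := Ext.covariant_sequence_exact₃' _ (hS.map_of_exact (presheafToSheaf J AddCommGrpCat.{u})) n₀ n₁ h
  δ_comp S hS n₀ n₁ h := by
    ext x
    show (hFun U J n₁).map S.f (Ext.comp x (hS.map_of_exact (presheafToSheaf J AddCommGrpCat.{u})).extClass h) = 0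
    rw [hFun_map]
    exact (Ext.comp_assoc _ _ _ h (add_zero 1) (by omega)).trans
      ((congrArg (fun m => Ext.comp x m h) (hS.map_of_exact (presheafToSheaf J AddCommGrpCat.{u})).extClass_comp).trans (Ext.comp_zero _ _ _ _ _))
  exact₁ S hS n₀ n₁ h := Ext.covariant_sequence_exact₁' _ (hS.map_of_exact (presheafToSheaf J AddCommGrpCat.{u})) n₀ n₁ h

end Groth.Agent.EdgeMap
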