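import Groth.Prelude.Def_CechEdge
import Mathlib.CategoryTheory.Limits.Shapes.ConcreteCategory
import Mathlib.CategoryTheory.Sites.Sheaf

/-! # Čech cohomology in degree zero and the sheaf condition -/

set_option autoImplicit false
set_option linter.all false
set_option backward.isDefEq.respectTransparency false
set_option backward.defeqAttrib.useBackward true

universe u

open CategoryTheory CategoryTheory.Limits Opposite Simplicial

namespace Groth.Agent.EdgeMap

variable {C : Type u} [SmallCategory C] [HasPullbacks C] {U : C} {ι : Type u} (Y : ι → Over U)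
  (P : Cᵒᵖ ⥤ AddCommGrpCat.{u})

/-- compatible families of values -/
abbrev Compat : Type u :=
  {z : ∀ i, (P ⋙ forget AddCommGrpCat.{u}).obj (op (Y i).left) //
    Presieve.Arrows.Compatible (P ⋙ forget AddCommGrpCat.{u}) (fun i => (Y i).hom) z}

/-- restriction of sections -/
def resFam (s : P.obj (op U)) : Compat Y P :=
  ⟨fun i => P.map (Y i).hom.op s, fun i j Z gi gj h => by
    show P.map gi.op (P.map (Y i).hom.op s) = P.map gj.op (P.map (Y j).hom.op s)
    rw [← Functor.map_comp_apply, ← Functor.map_comp_apply, ← op_comp, ← op_comp, h]⟩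

theorem isSheafFor_iff_bijective :
    Presieve.IsSheafFor (P ⋙ forget AddCommGrpCat.{u}) (Presieve.ofArrows (fun i => (Y i).left) (fun i => (Y i).hom)) ↔
      Function.Bijective (resFam Y P) := by
  rw [Presieve.isSheafFor_arrows_iff]
  refine ⟨fun h => ⟨fun s t e => ?_, fun z => ?_⟩, fun h z hz => ?_⟩
  · exact (h _ (resFam Y P s).2).unique (fun i => rfl) (fun i => (congrFun (congrArg Subtype.val e) i).symm)
  · obtain ⟨t, ht, -⟩ := h _ z.2
    exact ⟨t, Subtype.ext (funext ht)⟩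
  · obtain ⟨t, ht⟩ := h.2 ⟨z, hz⟩
    exact ⟨t, fun i => congrFun (congrArg Subtype.val ht) i, fun t' ht' => h.1 (ht.trans (Subtype.ext (funext ht').symm)).symm⟩

lemma resO {A B D : Over U} (f : A ⟶ B) (g : B ⟶ D) {h : A ⟶ D} (e : f ≫ g = h) (v : P.obj (op D.left)) :
    P.map f.left.op (P.map g.left.op v) = P.map h.left.op v := by
  subst e
  rw [← Functor.map_comp_apply, ← op_comp, ← Over.comp_left]

/-- the components of a cochain -/
noncomputable def comp₀ (n : ℕ) (x : (CechEdge.cx P Y).X n) (a : Fin (n + 1) → ι) :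
    P.obj (op (∏ᶜ (Y ∘ a)).left) :=
  Pi.π (fun a : Fin (n + 1) → ι => P.obj (op (∏ᶜ (Y ∘ a)).left)) a x

lemma comp₀_ext (n : ℕ) {x y : (CechEdge.cx P Y).X n} (h : ∀ a, comp₀ Y P n x a = comp₀ Y P n y a) : x = y := by
  let e := Concrete.productEquiv (fun a : Fin (n + 1) → ι => P.obj (op (∏ᶜ (Y ∘ a)).left))
  exact e.injective (funext fun a => (Concrete.productEquiv_apply_apply _ _ a).trans
    ((h a).trans (Concrete.productEquiv_apply_apply _ _ a).symm))

lemma comp₀_surjective (n : ℕ) (v : ∀ a : Fin (n + 1) → ι, P.obj (op (∏ᶜ (Y ∘ a)).left)) :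
    ∃ x : (CechEdge.cx P Y).X n, ∀ a, comp₀ Y P n x a = v a :=
  ⟨(Concrete.productEquiv (fun a : Fin (n + 1) → ι => P.obj (op (∏ᶜ (Y ∘ a)).left))).symm v,
    fun a => Concrete.productEquiv_symm_apply_π _ v a⟩

lemma comp₀_face (x : (CechEdge.cx P Y).X 0) (j : Fin 2) (a : Fin 2 → ι) :
    comp₀ Y P 1 (CechEdge.face P Y j x) a =
      P.map (((FormalCoproduct.mk _ Y).cech.map (SimplexCategory.δ j).op).φ a).left.op
        (comp₀ Y P 0 x (((FormalCoproduct.mk _ Y).cech.map (SimplexCategory.δ j).op).f a)) :=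
  ConcreteCategory.congr_hom (Pi.lift_π
    (fun a : Fin 2 → ι => Pi.π (fun b : Fin 1 → ι => P.obj (op (∏ᶜ (Y ∘ b)).left))
      (((FormalCoproduct.mk _ Y).cech.map (SimplexCategory.δ j).op).f a) ≫
      P.map (((FormalCoproduct.mk _ Y).cech.map (SimplexCategory.δ j).op).φ a).left.op) a) x

lemma comp₀_toCech₀ (s : P.obj (op U)) (a : Fin 1 → ι) :
    comp₀ Y P 0 (CechEdge.toCech₀ P Y s) a = P.map (∏ᶜ (Y ∘ a)).hom.op s :=
  ConcreteCategory.congr_hom (Pi.lift_π (fun a : Fin 1 → ι => P.map (∏ᶜ (Y ∘ a)).hom.op) a) s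

lemma cocycle_iff (x : (CechEdge.cx P Y).X 0) :
    (CechEdge.cx P Y).d 0 1 x = 0 ↔ CechEdge.face P Y 0 x = CechEdge.face P Y 1 x := by
  have h : (CechEdge.cx P Y).d 0 1 x = CechEdge.face P Y 0 x - CechEdge.face P Y 1 x := by
    rw [CechEdge.cx_d_zero_one, Fin.sum_univ_two]
    simp [sub_eq_add_neg]
  rw [h, sub_eq_zero]

/-- the constant tuple -/
abbrev cst (i : ι) : Fin 1 → ι := fun _ => i

/-- one factor products -/
noncomputable def one (i : ι) : Y i ⟶ ∏ᶜ (Y ∘ cst i) := Pi.lift fun _ => 𝟙 (Y i)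

lemma π_one (i : ι) : Pi.π (Y ∘ cst i) (0 : Fin 1) ≫ one Y i = 𝟙 _ := by
  apply Pi.hom_ext
  intro k
  obtain rfl : k = 0 := Subsingleton.elim _ _
  rw [Category.assoc, one, Pi.lift_π, Category.id_comp]
  exact Category.comp_id _

/-- compatible families of cocycles -/
noncomputable def famOf (x : (CechEdge.cx P Y).X 0) (i : ι) : P.obj (op (Y i).left) :=
  P.map (one Y i).left.op (comp₀ Y P 0 x (cst i))

lemma comp₀_famOf (x : (CechEdge.cx P Y).X 0) (a : Fin 1 → ι) :
    comp₀ Y P 0 x a = P.map (Pi.π (Y ∘ a) (0 : Fin 1)).left.op (famOf Y P x (a 0)) := by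
  obtain ⟨i, rfl⟩ : ∃ i, a = cst i := ⟨a 0, funext fun k => congrArg a (Subsingleton.elim _ _)⟩
  refine Eq.trans ?_ (resO (P := P) (Pi.π (Y ∘ cst i) (0 : Fin 1)) (one Y i) (π_one Y i) (comp₀ Y P 0 x (cst i))).symm
  exact (Functor.map_id_apply P _ _).symm

lemma cechφ_π (a : Fin 2 → ι) (j : Fin 2) :
    (((FormalCoproduct.mk _ Y).cech.map (SimplexCategory.δ j).op).φ a) ≫
      Pi.π (Y ∘ (((FormalCoproduct.mk _ Y).cech.map (SimplexCategory.δ j).op).f a)) (0 : Fin 1) =
      Pi.π (Y ∘ a) ((SimplexCategory.δ j).toOrderHom (0 : Fin 1)) := by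
  simp [FormalCoproduct.cech, FormalCoproduct.mapPower]

theorem compatible_famOf (x : (CechEdge.cx P Y).X 0) (hx : (CechEdge.cx P Y).d 0 1 x = 0) :
    Presieve.Arrows.Compatible (P ⋙ forget AddCommGrpCat.{u}) (fun i => (Y i).hom) (famOf Y P x) := by
  intro i j Z gi gj h
  let W : Over U := Over.mk (gi ≫ (Y i).hom)
  let a : Fin 2 → ι := ![i, j]
  let q : W ⟶ ∏ᶜ (Y ∘ a) := Pi.lift fun k => match k with
    | 0 => (Over.homMk gi rfl : W ⟶ Y i)
    | 1 => (Over.homMk gj h.symm : W ⟶ Y j)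
  have e := congrArg (fun y => P.map q.left.op (comp₀ Y P 1 y a)) ((cocycle_iff Y P x).1 hx)
  simp only [comp₀_face, comp₀_famOf] at e
  have h0 : q ≫ Pi.π (Y ∘ a) (0 : Fin 2) = (Over.homMk gi rfl : W ⟶ Y i) := Pi.lift_π _ _
  have h1 : q ≫ Pi.π (Y ∘ a) (1 : Fin 2) = (Over.homMk gj h.symm : W ⟶ Y j) := Pi.lift_π _ _
  have e' : P.map (q ≫ Pi.π (Y ∘ a) (1 : Fin 2)).left.op (famOf Y P x j) =
      P.map (q ≫ Pi.π (Y ∘ a) (0 : Fin 2)).left.op (famOf Y P x i) :=
    ((congrArg (P.map q.left.op) (resO (P := P) _ _ (cechφ_π Y a 0) _)).trans (resO (P := P) q _ rfl _)).symm.trans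
      (e.trans ((congrArg (P.map q.left.op) (resO (P := P) _ _ (cechφ_π Y a 1) _)).trans (resO (P := P) q _ rfl _)))
  rw [h0, h1] at e'
  exact e'.symm

theorem exists_cocycle (z : Compat Y P) :
    ∃ x : (CechEdge.cx P Y).X 0, (CechEdge.cx P Y).d 0 1 x = 0 ∧ ∀ i, famOf Y P x i = z.1 i := by
  obtain ⟨x, hx⟩ := comp₀_surjective Y P 0 fun a => P.map (Pi.π (Y ∘ a) (0 : Fin 1)).left.op (z.1 (a 0))
  refine ⟨x, (cocycle_iff Y P x).2 (comp₀_ext Y P 1 fun a => ?_), fun i => ?_⟩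
  · rw [comp₀_face, comp₀_face, hx, hx]
    refine (resO (P := P) _ _ (cechφ_π Y a 0) _).trans (Eq.trans ?_ (resO (P := P) _ _ (cechφ_π Y a 1) _).symm)
    exact z.2 _ _ _ _ _ ((Over.w _).trans (Over.w _).symm)
  · show P.map (one Y i).left.op (comp₀ Y P 0 x (cst i)) = z.1 i
    rw [hx]
    refine (resO (P := P) (one Y i) (Pi.π (Y ∘ cst i) (0 : Fin 1)) (Pi.lift_π _ _) (z.1 i)).trans ?_
    exact Functor.map_id_apply P _ _

theorem bijective_toCech_iff :
    Function.Bijective (CechEdge.toCech Y P) ↔ Function.Bijective (resFam Y P) := by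
  haveI : IsIso ((CechEdge.cx P Y).homologyπ 0) := (CechEdge.cx P Y).isIso_homologyπ 0 0 (by simp) (by simp)
  have hπ := (ConcreteCategory.isIso_iff_bijective ((CechEdge.cx P Y).homologyπ 0)).1 inferInstance
  rw [show ⇑(CechEdge.toCech Y P) = ⇑((CechEdge.cx P Y).homologyπ 0) ∘ ⇑(CechEdge.toCycles P Y) from rfl,
    Function.Bijective.of_comp_iff' hπ]
  have hi := (AddCommGrpCat.mono_iff_injective ((CechEdge.cx P Y).iCycles 0)).1 inferInstance
  let F : (CechEdge.cx P Y).cycles 0 → Compat Y P := fun c =>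
    ⟨famOf Y P ((CechEdge.cx P Y).iCycles 0 c), compatible_famOf Y P _
      (ConcreteCategory.congr_hom ((CechEdge.cx P Y).iCycles_d 0 1) c)⟩
  have hF : Function.Bijective F := by
    refine ⟨fun c c' e => hi (comp₀_ext Y P 0 fun a => ?_), fun z => ?_⟩
    · rw [comp₀_famOf, comp₀_famOf]
      exact congrArg (P.map (Pi.π (Y ∘ a) (0 : Fin 1)).left.op) (congrFun (congrArg Subtype.val e) (a 0))
    · obtain ⟨x, hx, hxz⟩ := exists_cocycle Y P z
      obtain ⟨c, hc⟩ := (ShortComplex.ab_exact_iff _).1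
        (ShortComplex.exact_of_f_is_kernel (ShortComplex.mk _ _ ((CechEdge.cx P Y).iCycles_d 0 1))
          ((CechEdge.cx P Y).cyclesIsKernel 0 1 (by simp))) x hx
      exact ⟨c, Subtype.ext (funext fun i => (congrArg (fun x => famOf Y P x i) hc).trans (hxz i))⟩
  have hc : F ∘ ⇑(CechEdge.toCycles P Y) = resFam Y P := funext fun s => Subtype.ext (funext fun i => by
    show famOf Y P ((CechEdge.cx P Y).iCycles 0 (CechEdge.toCycles P Y s)) i = P.map (Y i).hom.op s
    rw [show (CechEdge.cx P Y).iCycles 0 (CechEdge.toCycles P Y s) = CechEdge.toCech₀ P Y s from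
      ConcreteCategory.congr_hom (CechEdge.toCycles_i P Y) s, famOf, comp₀_toCech₀]
    refine (Functor.map_comp_apply P _ _ _).symm.trans ?_
    rw [← op_comp, Over.w])
  rw [← hc, Function.Bijective.of_comp_iff' hF]

theorem bijective_toCech_iff_isSheafFor :
    Function.Bijective (CechEdge.toCech Y P) ↔ Presieve.IsSheafFor (P ⋙ forget AddCommGrpCat.{u})
      (Sieve.ofArrows (fun i => (Y i).left) (fun i => (Y i).hom)).arrows := by
  rw [bijective_toCech_iff, ← isSheafFor_iff_bijective, Sieve.ofArrows, ← Presieve.isSheafFor_iff_generate]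

theorem isSheaf_iff (J : GrothendieckTopology C) :
    Presheaf.IsSheaf J P ↔ ∀ (U : C) (ι : Type u) (Y : ι → Over U),
      Sieve.ofArrows (fun i => (Y i).left) (fun i => (Y i).hom) ∈ J U → Function.Bijective (CechEdge.toCech Y P) := by
  rw [Presheaf.isSheaf_iff_isSheaf_forget J P (forget AddCommGrpCat.{u}), isSheaf_iff_isSheaf_of_type]
  refine ⟨fun h U ι Y hY => (bijective_toCech_iff_isSheafFor Y P).2 (h _ hY), fun h U S hS => ?_⟩
  let ι := Σ W : C, {f : W ⟶ U // S f}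
  let Y : ι → Over U := fun i => Over.mk i.2.1
  have e : Sieve.ofArrows (fun i => (Y i).left) (fun i => (Y i).hom) = S := by
    apply Sieve.ext
    intro W f
    rw [Sieve.mem_ofArrows_iff]
    exact ⟨fun ⟨i, g, hg⟩ => hg ▸ S.downward_closed i.2.2 g, fun hf => ⟨⟨W, f, hf⟩, 𝟙 _, (Category.id_comp f).symm⟩⟩
  have := (bijective_toCech_iff_isSheafFor Y P).1 (h U ι Y (e ▸ hS))
  rwa [e] at this

end Groth.Agent.EdgeMap
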