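import Groth.Agent.EdgeMap.Delta
import Groth.Agent.EdgeMap.ZeroDeg
import Groth.Agent.DeltaUniv.Universal
import Mathlib.Algebra.Category.Grp.AB
import Mathlib.CategoryTheory.Abelian.GrothendieckAxioms.FunctorCategory
import Mathlib.CategoryTheory.Generator.Presheaf
import Mathlib.CategoryTheory.Abelian.GrothendieckCategory.EnoughInjectives

/-! # The comparison map from Čech cohomology to cohomology -/

set_option autoImplicit false
set_option linter.all false
set_option backward.isDefEq.respectTransparency false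
set_option backward.defeqAttrib.useBackward true

universe u

open CategoryTheory CategoryTheory.Limits CategoryTheory.Abelian Opposite Simplicial

namespace Groth.Agent.EdgeMap

open Groth.Agent

variable {C : Type u} [SmallCategory C] [HasPullbacks C] {U : C} {ι : Type u} (Y : ι → Over U)
  (J : GrothendieckTopology C)

abbrev Pre (C : Type u) [SmallCategory C] : Type (u + 1) := Cᵒᵖ ⥤ AddCommGrpCat.{u}

/-- the covering condition -/
abbrev IsCov : Prop := Sieve.ofArrows (fun i => (Y i).left) (fun i => (Y i).hom) ∈ J U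

lemma isEffaceable_cechT : (cechT Y).IsEffaceable := by
  haveI : AB5OfSize.{u, u} (Pre C) := { ofShape := fun K _ _ => inferInstance }
  haveI : IsGrothendieckAbelian.{u} (Pre C) := { }
  refine DeltaUniv.isEffaceable_iff.2 fun n I hI => ?_
  haveI : Injective I := hI
  haveI := Functor.preservesInjectiveObjects_of_adjunction_of_preservesMonomorphisms
    (sheafBotEquivalence AddCommGrpCat.{u} (C := C)).toAdjunction
  haveI : Injective (SiteCoh.botSh I) := (sheafBotEquivalence AddCommGrpCat.{u} (C := C)).inverse.injective_obj I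
  exact (@AddCommGrpCat.isZero_of_subsingleton _ (Ext.subsingleton_of_injective _ (SiteCoh.botSh I) n)).of_iso
    (SiteCoh.nonempty_cechH_iso Y I (n + 1)).some

lemma sectH0_natural {F G : Sheaf J AddCommGrpCat.{u}} (ψ : F ⟶ G) (s : F.obj.obj (op U)) :
    CechEdge.HUmap ψ 0 U (CechEdge.sectH0 J U F s) = CechEdge.sectH0 J U G (ψ.hom.app (op U) s) := by
  show Ext.comp (CechEdge.sectH0 J U F s) (Ext.mk₀ ψ) (add_zero 0) = _
  apply (CechEdge.sectH0 J U G).symm.injective
  rw [AddEquiv.symm_apply_apply]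
  obtain ⟨φ, rfl⟩ := (CohFree.homEquivSect J U F).surjective s
  show (CohFree.homEquivSect J U G) (Ext.addEquiv₀ (Ext.comp (Ext.addEquiv₀.symm
    ((CohFree.homEquivSect J U F).symm (CohFree.homEquivSect J U F φ))) (Ext.mk₀ ψ) (add_zero 0))) = _
  rw [AddEquiv.symm_apply_apply, Ext.addEquiv₀_symm_apply, Ext.mk₀_comp_mk₀, ← Ext.addEquiv₀_symm_apply,
    AddEquiv.apply_symm_apply]
  rfl

lemma toCech_natural {P Q : Pre C} (φ : P ⟶ Q) (s : P.obj (op U)) :
    CechEdge.cechHMap Y φ 0 (CechEdge.toCech Y P s) = CechEdge.toCech Y Q (φ.app (op U) s) := by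
  show HomologicalComplex.homologyMap ((CechEdge.cxFunctor Y).map φ) 0
      ((CechEdge.cx P Y).homologyπ 0 (CechEdge.toCycles P Y s)) =
    (CechEdge.cx Q Y).homologyπ 0 (CechEdge.toCycles Q Y (φ.app (op U) s))
  refine (ConcreteCategory.congr_hom (HomologicalComplex.homologyπ_naturality ((CechEdge.cxFunctor Y).map φ) 0) (CechEdge.toCycles P Y s)).trans
    (congrArg ((CechEdge.cx Q Y).homologyπ 0) ?_)
  apply (AddCommGrpCat.mono_iff_injective ((CechEdge.cx Q Y).iCycles 0)).1 inferInstance
  refine (ConcreteCategory.congr_hom (HomologicalComplex.cyclesMap_i ((CechEdge.cxFunctor Y).map φ) 0) (CechEdge.toCycles P Y s)).trans ?_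
  refine Eq.trans ?_ (ConcreteCategory.congr_hom (CechEdge.toCycles_i Q Y) (φ.app (op U) s)).symm
  refine (congrArg (((CechEdge.cxFunctor Y).map φ).f 0) (ConcreteCategory.congr_hom (CechEdge.toCycles_i P Y) s)).trans
    (comp₀_ext Y Q 0 fun a => ?_)
  refine (ConcreteCategory.congr_hom (Pi.map_π (fun a : Fin 1 → ι => φ.app (op (∏ᶜ (Y ∘ a)).left)) a) (CechEdge.toCech₀ P Y s)).trans ?_
  refine (congrArg (φ.app (op (∏ᶜ (Y ∘ a)).left)) (comp₀_toCech₀ Y P s a)).trans ?_
  exact (NatTrans.naturality_apply φ _ s).trans (comp₀_toCech₀ Y Q (φ.app (op U) s) a).symm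

variable {Y J}

/-- `P#(U) = Ȟ⁰(P#)` -/
noncomputable def secEquivCech (hY : IsCov Y J) (P : Pre C) :
    (CechEdge.shf J P).obj.obj (op U) ≃+ CohCx.cechH (CechEdge.shf J P).obj Y 0 :=
  AddEquiv.ofBijective (CechEdge.toCech Y (CechEdge.shf J P).obj)
    ((isSheaf_iff (CechEdge.shf J P).obj J).1 (CechEdge.shf J P).property U ι Y hY)

/-- the edge map in degree zero -/
noncomputable def edge₀ (hY : IsCov Y J) (P : Pre C) : CohCx.cechH P Y 0 →+ CohSite.HU (CechEdge.shf J P) 0 U :=
  ((CechEdge.sectH0 J U (CechEdge.shf J P)).toAddMonoidHom.comp (secEquivCech hY P).symm.toAddMonoidHom).comp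
    (CechEdge.cechHMap Y (toSheafify J P) 0)

lemma edge₀_toCech (hY : IsCov Y J) (P : Pre C) (s : P.obj (op U)) :
    edge₀ hY P (CechEdge.toCech Y P s) = CechEdge.sectH0 J U (CechEdge.shf J P) ((toSheafify J P).app (op U) s) := by
  show CechEdge.sectH0 J U _ ((secEquivCech hY P).symm (CechEdge.cechHMap Y (toSheafify J P) 0 (CechEdge.toCech Y P s))) = _
  rw [toCech_natural]
  exact congrArg _ ((secEquivCech hY P).symm_apply_apply _)

lemma cechHMap_comp {P Q R : Pre C} (φ : P ⟶ Q) (ψ : Q ⟶ R) (p : ℕ) (x : CohCx.cechH P Y p) :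
    CechEdge.cechHMap Y ψ p (CechEdge.cechHMap Y φ p x) = CechEdge.cechHMap Y (φ ≫ ψ) p x :=
  (Functor.map_comp_apply ((cechT Y).F p) φ ψ x).symm

lemma edge₀_natural (hY : IsCov Y J) {P Q : Pre C} (φ : P ⟶ Q) (x : CohCx.cechH P Y 0) :
    edge₀ hY Q (CechEdge.cechHMap Y φ 0 x) = CechEdge.HUmap (CechEdge.shfMap J φ) 0 U (edge₀ hY P x) := by
  show CechEdge.sectH0 J U _ ((secEquivCech hY Q).symm _) = CechEdge.HUmap (CechEdge.shfMap J φ) 0 U (CechEdge.sectH0 J U _ _)
  rw [sectH0_natural]
  refine congrArg _ ((secEquivCech hY Q).injective ?_)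
  rw [AddEquiv.apply_symm_apply]
  refine Eq.trans ?_ (toCech_natural Y (CechEdge.shfMap J φ).hom _)
  refine Eq.trans ?_ (congrArg (CechEdge.cechHMap Y (CechEdge.shfMap J φ).hom 0) ((secEquivCech hY P).apply_symm_apply _)).symm
  rw [cechHMap_comp, cechHMap_comp]
  exact congrArg (fun m => CechEdge.cechHMap Y m 0 x) (toSheafify_naturality J φ)

theorem exists_isEdge (hY : IsCov Y J) :
    ∃ e : ∀ (P : Pre C) (p : ℕ), CohCx.cechH P Y p →+ CohSite.HU (CechEdge.shf J P) p U, CechEdge.IsEdge J Y e := by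
  let t : (cechT Y).F 0 ⟶ (shT U J).F 0 :=
    { app := fun P => AddCommGrpCat.ofHom (edge₀ hY P)
      naturality := fun P Q φ => by
        ext x
        exact edge₀_natural hY φ x }
  obtain ⟨τ, hτ, -⟩ := DeltaUniv.isUniversal (isEffaceable_cechT Y) (shT U J) t
  refine ⟨fun P p => ((τ.app p).app P).hom, ⟨hY, fun P s => ?_, fun P Q φ p x => ?_, fun S hS hC p x => ?_⟩⟩
  · rw [show τ.app 0 = t from hτ]
    exact edge₀_toCech hY P s
  · exact NatTrans.naturality_apply (τ.app p) φ x
  · exact ConcreteCategory.congr_hom (τ.comm S hS p (p + 1) rfl) x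

variable {e : ∀ (P : Pre C) (p : ℕ), CohCx.cechH P Y p →+ CohSite.HU (CechEdge.shf J P) p U}

lemma isIso_shfMap_toSheafify (P : Pre C) : IsIso (CechEdge.shfMap J (toSheafify J P)) :=
  (J.W_iff _).1 (J.W_toSheafify P)

lemma edge_zero_eq (he : CechEdge.IsEdge J Y e) (P : Pre C) (x : CohCx.cechH P Y 0) :
    e P 0 x = edge₀ he.cover P x := by
  haveI := isIso_shfMap_toSheafify (J := J) P
  haveI : IsIso ((shT U J).F 0 |>.map (toSheafify J P)) := by
    show IsIso (((Sheaf.cohomologyPresheafFunctor J 0) ⋙ (evaluation Cᵒᵖ AddCommGrpCat.{u}).obj (op U)).map (CechEdge.shfMap J (toSheafify J P)))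
    infer_instance
  apply ((ConcreteCategory.isIso_iff_bijective ((shT U J).F 0 |>.map (toSheafify J P))).1 inferInstance).1
  show CechEdge.HUmap (CechEdge.shfMap J (toSheafify J P)) 0 U (e P 0 x) =
    CechEdge.HUmap (CechEdge.shfMap J (toSheafify J P)) 0 U (edge₀ he.cover P x)
  rw [← he.natural, ← edge₀_natural]
  obtain ⟨s, hs⟩ := ((isSheaf_iff (CechEdge.shf J P).obj J).1 (CechEdge.shf J P).property U ι Y he.cover).2
    (CechEdge.cechHMap Y (toSheafify J P) 0 x)
  rw [← hs, edge₀_toCech]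
  exact he.zero _ s

theorem isEdge_unique {e' : ∀ (P : Pre C) (p : ℕ), CohCx.cechH P Y p →+ CohSite.HU (CechEdge.shf J P) p U}
    (he : CechEdge.IsEdge J Y e) (he' : CechEdge.IsEdge J Y e') : e = e' := by
  funext P p
  induction p generalizing P with
  | zero => exact AddMonoidHom.ext fun x => (edge_zero_eq he P x).trans (edge_zero_eq he' P x).symm
  | succ p ih =>
    refine AddMonoidHom.ext fun x => ?_
    let η := DeltaUniv.eff (isEffaceable_cechT Y) p P
    obtain ⟨y, rfl⟩ := (AddCommGrpCat.epi_iff_surjective η.δ).1 inferInstance x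
    refine (he.delta η.ses η.shortExact (shortExact_cx Y η.shortExact) p y).trans ?_
    rw [ih]
    exact (he'.delta η.ses η.shortExact (shortExact_cx Y η.shortExact) p y).symm

/-! ### comparison results -/

section compare

variable (hY : IsCov Y J)

/-- injective resolution step of a sheaf in presheaves -/
noncomputable abbrev stepSeq (F : Sheaf J AddCommGrpCat.{u}) : ShortComplex (Pre C) :=
  ShortComplex.mk (Injective.ι F).hom (cokernel.π (Injective.ι F).hom) (cokernel.condition _)

lemma mono_ι_hom (F : Sheaf J AddCommGrpCat.{u}) : Mono (Injective.ι F).hom :=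
  haveI : (sheafToPresheaf J AddCommGrpCat.{u}).PreservesMonomorphisms :=
    Functor.preservesMonomorphisms_of_adjunction (sheafificationAdjunction J AddCommGrpCat.{u})
  (sheafToPresheaf J AddCommGrpCat.{u}).map_mono (Injective.ι F)

lemma shortExact_stepSeq (F : Sheaf J AddCommGrpCat.{u}) : (stepSeq F).ShortExact where
  exact := ShortComplex.exact_of_g_is_cokernel _ (cokernelIsCokernel _)
  mono_f := mono_ι_hom F
  epi_g := inferInstanceAs (Epi (cokernel.π _))

variable (J) in
/-- bijectivity of sheafification on the intersections -/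
def GoodPre (Y : ι → Over U) (P : Pre C) : Prop :=
  ∀ (n : ℕ) (a : Fin (n + 1) → ι), Function.Bijective ((toSheafify J P).app (op (∏ᶜ (Y ∘ a)).left))

lemma isIso_cxMap_of_bijective {P Q : Pre C} (φ : P ⟶ Q)
    (h : ∀ (n : ℕ) (a : Fin (n + 1) → ι), Function.Bijective (φ.app (op (∏ᶜ (Y ∘ a)).left))) :
    IsIso ((CechEdge.cxFunctor Y).map φ) := by
  haveI : ∀ n, IsIso (((CechEdge.cxFunctor Y).map φ).f n) := fun n => by
    haveI : ∀ a : Fin (n + 1) → ι, IsIso (φ.app (op (∏ᶜ (Y ∘ a)).left)) := fun a =>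
      (ConcreteCategory.isIso_iff_bijective _).2 (h n a)
    show IsIso (Limits.Pi.map fun a : Fin (n + 1) → ι => φ.app (op (∏ᶜ (Y ∘ a)).left))
    infer_instance
  exact HomologicalComplex.Hom.isIso_of_components _

lemma bijective_cechHMap {P : Pre C} (hP : GoodPre J Y P) (p : ℕ) :
    Function.Bijective (CechEdge.cechHMap Y (toSheafify J P) p) := by
  haveI := isIso_cxMap_of_bijective (toSheafify J P) hP
  exact (ConcreteCategory.isIso_iff_bijective
    (HomologicalComplex.homologyMap ((CechEdge.cxFunctor Y).map (toSheafify J P)) p)).1 inferInstance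

lemma cechHMap_injective_zero {P Q : Pre C} (φ : P ⟶ Q) (h : ∀ V, Function.Injective (φ.app V)) :
    Function.Injective (CechEdge.cechHMap Y φ 0) := by
  haveI : ∀ V, Mono (φ.app V) := fun V => (AddCommGrpCat.mono_iff_injective _).2 (h V)
  haveI : ∀ n, Mono (((CechEdge.cxFunctor Y).map φ).f n) := fun n => by
    show Mono (Limits.Pi.map fun a : Fin (n + 1) → ι => φ.app (op (∏ᶜ (Y ∘ a)).left))
    infer_instance
  haveI : Mono (HomologicalComplex.cyclesMap ((CechEdge.cxFunctor Y).map φ) 0 ≫ (CechEdge.cx Q Y).iCycles 0) := by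
    erw [HomologicalComplex.cyclesMap_i]
    exact mono_comp _ _
  haveI : Mono (HomologicalComplex.cyclesMap ((CechEdge.cxFunctor Y).map φ) 0) :=
    mono_of_mono _ ((CechEdge.cx Q Y).iCycles 0)
  haveI : IsIso ((CechEdge.cx P Y).homologyπ 0) := (CechEdge.cx P Y).isIso_homologyπ 0 0 (by simp) (by simp)
  haveI : IsIso ((CechEdge.cx Q Y).homologyπ 0) := (CechEdge.cx Q Y).isIso_homologyπ 0 0 (by simp) (by simp)
  have : Mono (HomologicalComplex.homologyMap ((CechEdge.cxFunctor Y).map φ) 0) := by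
    rw [← IsIso.inv_hom_id_assoc ((CechEdge.cx P Y).homologyπ 0) (HomologicalComplex.homologyMap ((CechEdge.cxFunctor Y).map φ) 0),
      HomologicalComplex.homologyπ_naturality]
    infer_instance
  exact (AddCommGrpCat.mono_iff_injective _).1 this

lemma edge_zero_injective (he : CechEdge.IsEdge J Y e) {P : Pre C}
    (hP : ∀ V, Function.Injective ((toSheafify J P).app V)) : Function.Injective (e P 0) := by
  intro x y h
  rw [edge_zero_eq he, edge_zero_eq he] at h
  exact cechHMap_injective_zero _ hP ((secEquivCech he.cover P).symm.injective ((CechEdge.sectH0 J U _).injective h))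

lemma edge_zero_bijective (he : CechEdge.IsEdge J Y e) {P : Pre C} (hP : GoodPre J Y P) : Function.Bijective (e P 0) := by
  rw [show ⇑(e P 0) = ⇑(edge₀ he.cover P) from funext (edge_zero_eq he P)]
  exact (CechEdge.sectH0 J U _).bijective.comp ((secEquivCech he.cover P).symm.bijective.comp (bijective_cechHMap hP 0))

lemma toSheafify_bijective_of_sheaf (F : Sheaf J AddCommGrpCat.{u}) (V : Cᵒᵖ) :
    Function.Bijective ((toSheafify J F.obj).app V) := by
  haveI := isIso_toSheafify J F.property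
  exact (ConcreteCategory.isIso_iff_bijective _).1 inferInstance

/-- the sheafified step sequence -/
lemma shortExact_stepSh (F : Sheaf J AddCommGrpCat.{u}) :
    ((stepSeq F).map (presheafToSheaf J AddCommGrpCat.{u})).ShortExact :=
  (shortExact_stepSeq F).map_of_exact _

lemma toSheafify_injective_cokernel (F : Sheaf J AddCommGrpCat.{u}) (V : Cᵒᵖ) :
    Function.Injective ((toSheafify J (stepSeq F).X₃).app V) := by
  rw [injective_iff_map_eq_zero]
  intro z hz
  have hsV := (shortExact_stepSeq F).map_of_exact ((evaluation Cᵒᵖ AddCommGrpCat.{u}).obj V)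
  obtain ⟨i, rfl⟩ := (AddCommGrpCat.epi_iff_surjective _).1 hsV.epi_g z
  haveI : PreservesFiniteLimits (sheafToPresheaf J AddCommGrpCat.{u}) := by
    haveI : PreservesLimitsOfSize.{0, 0} (sheafToPresheaf J AddCommGrpCat.{u}) :=
      (sheafificationAdjunction J AddCommGrpCat.{u}).rightAdjoint_preservesLimits
    exact PreservesLimitsOfSize.preservesFiniteLimits.{0, 0} _
  have hex := (((sheafToPresheaf J AddCommGrpCat.{u} ⋙ (evaluation Cᵒᵖ AddCommGrpCat.{u}).obj V)).preservesFiniteLimits_iff_forall_exact_map_and_mono.1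
    (comp_preservesFiniteLimits _ _) _ (shortExact_stepSh F)).1
  obtain ⟨a, ha⟩ := (ShortComplex.ab_exact_iff _).1 hex ((toSheafify J (stepSeq F).X₂).app V i)
    (((ConcreteCategory.congr_hom (NatTrans.congr_app (toSheafify_naturality J (stepSeq F).g) V) i).symm).trans hz)
  obtain ⟨b, rfl⟩ := (toSheafify_bijective_of_sheaf F V).2 a
  have : i = (stepSeq F).f.app V b := (toSheafify_bijective_of_sheaf (Injective.under F) V).1
    (ha.symm.trans (ConcreteCategory.congr_hom (NatTrans.congr_app (toSheafify_naturality J (stepSeq F).f) V) b).symm)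
  subst this
  exact ConcreteCategory.congr_hom (NatTrans.congr_app (stepSeq F).zero V) b

theorem edge_one_injective (he : CechEdge.IsEdge J Y e) (F : Sheaf J AddCommGrpCat.{u}) :
    Function.Injective (e F.obj 1) := by
  rw [injective_iff_map_eq_zero]
  intro x hx
  have hS := shortExact_stepSeq F
  have hC := shortExact_cx Y hS
  obtain ⟨y, rfl⟩ : ∃ y, hC.δ 0 1 rfl y = x := (ShortComplex.ab_exact_iff _).1 ((cechT Y).exact₁ _ hS 0 1 rfl) x
    ((SiteCoh.isZero_cechH_injective J Y (Injective.under F) 0).eq_of_tgt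
      (((cechT Y).F 1).map (stepSeq F).f) 0 |> fun h => ConcreteCategory.congr_hom h x)
  replace hx := (he.delta _ hS hC 0 y).symm.trans hx
  obtain ⟨w, hw⟩ := (ShortComplex.ab_exact_iff _).1 ((shT U J).exact₃ _ hS 0 1 rfl) (e _ 0 y) hx
  obtain ⟨w', rfl⟩ := (edge_zero_bijective he (fun n a => toSheafify_bijective_of_sheaf (Injective.under F) _)).2 w
  have hy : y = CechEdge.cechHMap Y (stepSeq F).g 0 w' :=
    edge_zero_injective he (toSheafify_injective_cokernel F) (hw.symm.trans (he.natural _ _ _ 0 w').symm)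
  subst hy
  exact ConcreteCategory.congr_hom ((cechT Y).comp_δ _ hS 0 1 rfl) w'

/-- vanishing of higher cohomology on intersections -/
def Acyc (Y : ι → Over U) (F : Sheaf J AddCommGrpCat.{u}) : Prop :=
  ∀ (n : ℕ) (a : Fin (n + 1) → ι) (q : ℕ), Subsingleton (CohSite.HU F (q + 1) (∏ᶜ (Y ∘ a)).left)

theorem edge_bijective_aux (he : CechEdge.IsEdge J Y e) (p : ℕ) : ∀ (P : Pre C), GoodPre J Y P →
    Acyc Y (CechEdge.shf J P) → Function.Bijective (e P p) := by
  induction p with
  | zero => exact fun P hP _ => edge_zero_bijective he hP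
  | succ p ih0 =>
    intro P hP hA
    let F := CechEdge.shf J P
    suffices hF : Function.Bijective (e F.obj (p + 1)) by
      have h1 : ⇑(CechEdge.HUmap (CechEdge.shfMap J (toSheafify J P)) (p + 1) U) ∘ ⇑(e P (p + 1)) =
          ⇑(e F.obj (p + 1)) ∘ ⇑(CechEdge.cechHMap Y (toSheafify J P) (p + 1)) :=
        funext fun x => (he.natural _ _ (toSheafify J P) (p + 1) x).symm
      have h2 : Function.Bijective (CechEdge.HUmap (CechEdge.shfMap J (toSheafify J P)) (p + 1) U) := by
        haveI := isIso_shfMap_toSheafify (J := J) P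
        exact (ConcreteCategory.isIso_iff_bijective ((Sheaf.cohomologyPresheafFunctor J (p + 1) ⋙
          (evaluation Cᵒᵖ AddCommGrpCat.{u}).obj (op U)).map (CechEdge.shfMap J (toSheafify J P)))).1 inferInstance
      exact (Function.Bijective.of_comp_iff' h2 _).1 (h1 ▸ hF.comp (bijective_cechHMap hP (p + 1)))
    have hS := shortExact_stepSeq F
    have hC := shortExact_cx Y hS
    have hSh := shortExact_stepSh F
    haveI hFF : IsIso ((sheafificationAdjunction J AddCommGrpCat.{u}).counit.app F) := inferInstance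
    haveI hII : IsIso ((sheafificationAdjunction J AddCommGrpCat.{u}).counit.app (Injective.under F)) := inferInstance
    haveI hI : Injective (CechEdge.shf J (stepSeq F).X₂) :=
      Injective.of_iso (asIso ((sheafificationAdjunction J AddCommGrpCat.{u}).counit.app (Injective.under F))).symm inferInstance
    have hIz : ∀ (V : C) (q : ℕ), Subsingleton (CohSite.HU (CechEdge.shf J (stepSeq F).X₂) (q + 1) V) := fun V q =>
      Ext.subsingleton_of_injective _ _ q
    have hFz : ∀ (n : ℕ) (a : Fin (n + 1) → ι) (q : ℕ),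
        Subsingleton (CohSite.HU (CechEdge.shf J (stepSeq F).X₁) (q + 1) (∏ᶜ (Y ∘ a)).left) := fun n a q => by
      exact @Equiv.subsingleton _ _ ((Sheaf.cohomologyPresheafFunctor J (q + 1) ⋙ (evaluation Cᵒᵖ AddCommGrpCat.{u}).obj (op (∏ᶜ (Y ∘ a)).left)).mapIso
        (asIso ((sheafificationAdjunction J AddCommGrpCat.{u}).counit.app F))).addCommGroupIsoToAddEquiv.toEquiv (hA n a q)
    have hgood : GoodPre J Y (stepSeq F).X₃ := fun n a => by
      refine ⟨toSheafify_injective_cokernel F _, fun z => ?_⟩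
      let V := (∏ᶜ (Y ∘ a)).left
      obtain ⟨w, hw⟩ : ∃ w, (hFun V J 0).map (stepSeq F).g w = CechEdge.sectH0 J V _ z :=
        (ShortComplex.ab_exact_iff _).1 ((shT V J).exact₃ _ hS 0 1 rfl) _ (@Subsingleton.elim _ (hFz n a 0) _ _)
      obtain ⟨s, rfl⟩ := (CechEdge.sectH0 J V _).surjective w
      obtain ⟨i, rfl⟩ := (toSheafify_bijective_of_sheaf (Injective.under F) (op V)).2 s
      refine ⟨(stepSeq F).g.app _ i, (CechEdge.sectH0 J V _).injective ?_⟩
      rw [← hw]
      refine Eq.trans ?_ (sectH0_natural (U := V) J (CechEdge.shfMap J (stepSeq F).g) _).symm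
      exact congrArg _ (ConcreteCategory.congr_hom (NatTrans.congr_app (toSheafify_naturality J (stepSeq F).g) (op V)) i)
    have hacyc : Acyc Y (CechEdge.shf J (stepSeq F).X₃) := fun n a q => by
      refine ⟨fun x y => sub_eq_zero.1 ?_⟩
      obtain ⟨w, hw⟩ := (ShortComplex.ab_exact_iff _).1 ((shT (∏ᶜ (Y ∘ a)).left J).exact₃ _ hS (q + 1) (q + 1 + 1) rfl)
        (x - y) (@Subsingleton.elim _ (hFz n a (q + 1)) _ _)
      rw [← hw, @Subsingleton.elim _ (hIz (∏ᶜ (Y ∘ a)).left q) w 0]
      exact map_zero _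
    have ih := ih0 (stepSeq F).X₃ hgood hacyc
    refine ⟨?_, fun z => ?_⟩
    · cases p with
      | zero => exact edge_one_injective he F
      | succ p =>
        rw [injective_iff_map_eq_zero]
        intro x hx
        obtain ⟨y, rfl⟩ : ∃ y, hC.δ (p + 1) (p + 1 + 1) rfl y = x :=
          (ShortComplex.ab_exact_iff _).1 ((cechT Y).exact₁ _ hS (p + 1) (p + 1 + 1) rfl) x
            (ConcreteCategory.congr_hom ((SiteCoh.isZero_cechH_injective J Y (Injective.under F) (p + 1)).eq_of_tgt
              (((cechT Y).F (p + 1 + 1)).map (stepSeq F).f) 0) x)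
        replace hx := (he.delta _ hS hC (p + 1) y).symm.trans hx
        obtain ⟨w, hw⟩ := (ShortComplex.ab_exact_iff _).1 ((shT U J).exact₃ _ hS (p + 1) (p + 1 + 1) rfl) (e _ (p + 1) y) hx
        have hy : y = 0 := ih.1 (by
          rw [map_zero, ← hw, @Subsingleton.elim _ (hIz U p) w 0]
          exact map_zero _)
        rw [hy]
        exact map_zero _
    · obtain ⟨w, hw⟩ := (ShortComplex.ab_exact_iff _).1 ((shT U J).exact₁ _ hS p (p + 1) rfl) z
        (@Subsingleton.elim _ (hIz U p) _ _)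
      obtain ⟨y, rfl⟩ := ih.2 w
      exact ⟨hC.δ p (p + 1) rfl y, (he.delta _ hS hC p y).trans hw⟩

lemma edgeSh_eq (F : Sheaf J AddCommGrpCat.{u}) (p : ℕ) :
    ⇑(CechEdge.edgeSh e F p) = ⇑(CechEdge.HUmap ((sheafificationAdjunction J AddCommGrpCat.{u}).counit.app F) p U) ∘ ⇑(e F.obj p) := rfl

lemma bijective_HUmap_counit (F : Sheaf J AddCommGrpCat.{u}) (p : ℕ) (V : C) :
    Function.Bijective (CechEdge.HUmap ((sheafificationAdjunction J AddCommGrpCat.{u}).counit.app F) p V) :=
  (ConcreteCategory.isIso_iff_bijective ((Sheaf.cohomologyPresheafFunctor J p ⋙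
    (evaluation Cᵒᵖ AddCommGrpCat.{u}).obj (op V)).map ((sheafificationAdjunction J AddCommGrpCat.{u}).counit.app F))).1 inferInstance

theorem edgeSh_one_injective (he : CechEdge.IsEdge J Y e) (F : Sheaf J AddCommGrpCat.{u}) :
    Function.Injective (CechEdge.edgeSh e F 1) := by
  rw [edgeSh_eq]
  exact (bijective_HUmap_counit F 1 U).1.comp (edge_one_injective he F)

theorem edgeSh_bijective (he : CechEdge.IsEdge J Y e) (F : Sheaf J AddCommGrpCat.{u})
    (h : ∀ (p : ℕ) (a : Fin (p + 1) → ι) (q : ℕ), Subsingleton (CohSite.HU F (q + 1) (∏ᶜ fun k => Y (a k)).left))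
    (p : ℕ) : Function.Bijective (CechEdge.edgeSh e F p) := by
  rw [edgeSh_eq]
  refine (bijective_HUmap_counit F p U).comp (edge_bijective_aux he p F.obj (fun n a => toSheafify_bijective_of_sheaf F _) fun n a q => ?_)
  exact @Equiv.subsingleton _ _ (Equiv.ofBijective _ (bijective_HUmap_counit F (q + 1) (∏ᶜ (Y ∘ a)).left)) (h n a q)

end compare

end Groth.Agent.EdgeMap
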