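import Groth.Agent.EdgeMap.Edge

/-! # Edge maps and refinements -/

set_option autoImplicit false
set_option linter.all false
set_option backward.isDefEq.respectTransparency false
set_option backward.defeqAttrib.useBackward true

universe u

open CategoryTheory CategoryTheory.Limits CategoryTheory.Abelian Opposite Simplicial AlgebraicTopology

namespace Groth.Agent.EdgeMap

open Groth.Agent

variable {C : Type u} [SmallCategory C] [HasPullbacks C] {U : C} {ι κ : Type u} {Y : ι → Over U} {Y' : κ → Over U}
  (f : FormalCoproduct.mk ι Y ⟶ FormalCoproduct.mk κ Y')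

/-- refinement, natural in the presheaf -/
noncomputable def refineTrans : CechEdge.cxFunctor Y' ⟶ CechEdge.cxFunctor Y where
  app P := CohCx.cechRefine P f
  naturality P Q φ :=
    ((Functor.whiskerLeft (resPre ⋙ FormalCoproduct.evalOp.{u} (Over U) AddCommGrpCat.{u})
      (Functor.whiskerRight ((Functor.whiskeringLeft _ _ _).map (NatTrans.rightOp (FormalCoproduct.cechFunctor.map f)))
        (alternatingCofaceMapComplex AddCommGrpCat.{u}))).naturality φ)

lemma refine_toCech₀ (P : Pre C) (s : P.obj (op U)) :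
    (CohCx.cechRefine P f).f 0 (CechEdge.toCech₀ P Y' s) = CechEdge.toCech₀ P Y s := by
  refine comp₀_ext Y P 0 fun a => ?_
  refine (ConcreteCategory.congr_hom (Pi.lift_π
    (fun a : Fin 1 → ι => Pi.π (fun b : Fin 1 → κ => P.obj (op (∏ᶜ (Y' ∘ b)).left))
      (((FormalCoproduct.cechFunctor.map f).app (op ⦋0⦌)).f a) ≫
      P.map (((FormalCoproduct.cechFunctor.map f).app (op ⦋0⦌)).φ a).left.op) a) (CechEdge.toCech₀ P Y' s)).trans ?_
  refine (congrArg (P.map _) (comp₀_toCech₀ Y' P s _)).trans ?_
  refine Eq.trans ?_ (comp₀_toCech₀ Y P s a).symm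
  refine (Functor.map_comp_apply P _ _ _).symm.trans (congrArg (fun m => P.map m s) ?_)
  exact congrArg Quiver.Hom.op (Over.w (((FormalCoproduct.cechFunctor.map f).app (op ⦋0⦌)).φ a))

lemma refine_toCech (P : Pre C) (s : P.obj (op U)) :
    HomologicalComplex.homologyMap (CohCx.cechRefine P f) 0 (CechEdge.toCech Y' P s) = CechEdge.toCech Y P s := by
  show HomologicalComplex.homologyMap (CohCx.cechRefine P f) 0 ((CechEdge.cx P Y').homologyπ 0 (CechEdge.toCycles P Y' s)) =
    (CechEdge.cx P Y).homologyπ 0 (CechEdge.toCycles P Y s)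
  refine (ConcreteCategory.congr_hom (HomologicalComplex.homologyπ_naturality (CohCx.cechRefine P f) 0) (CechEdge.toCycles P Y' s)).trans
    (congrArg ((CechEdge.cx P Y).homologyπ 0) ?_)
  apply (AddCommGrpCat.mono_iff_injective ((CechEdge.cx P Y).iCycles 0)).1 inferInstance
  refine (ConcreteCategory.congr_hom (HomologicalComplex.cyclesMap_i (CohCx.cechRefine P f) 0) (CechEdge.toCycles P Y' s)).trans ?_
  refine Eq.trans ?_ (ConcreteCategory.congr_hom (CechEdge.toCycles_i P Y) s).symm
  exact (congrArg ((CohCx.cechRefine P f).f 0) (ConcreteCategory.congr_hom (CechEdge.toCycles_i P Y') s)).trans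
    (refine_toCech₀ f P s)

variable {J : GrothendieckTopology C}
  {e : ∀ (P : Pre C) (p : ℕ), CohCx.cechH P Y p →+ CohSite.HU (CechEdge.shf J P) p U}
  {e' : ∀ (P : Pre C) (p : ℕ), CohCx.cechH P Y' p →+ CohSite.HU (CechEdge.shf J P) p U}

theorem edge_refine (he : CechEdge.IsEdge J Y e) (he' : CechEdge.IsEdge J Y' e') :
    (fun P p => (e P p).comp (HomologicalComplex.homologyMap (CohCx.cechRefine P f) p).hom) = e' := by
  refine isEdge_unique ⟨he'.cover, fun P s => ?_, fun P Q φ p x => ?_, fun S hS hC p x => ?_⟩ he'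
  · exact (congrArg (e P 0) (refine_toCech f P s)).trans (he.zero P s)
  · refine Eq.trans ?_ (he.natural P Q φ p _)
    refine congrArg (e Q p) ?_
    exact ConcreteCategory.congr_hom (((HomologicalComplex.homologyMap_comp _ _ p).symm.trans
      (congrArg (fun m => HomologicalComplex.homologyMap m p) ((refineTrans f).naturality φ))).trans
        (HomologicalComplex.homologyMap_comp _ _ p)) x
  · refine Eq.trans ?_ (he.delta S hS (shortExact_cx Y hS) p _)
    exact congrArg (e S.X₁ (p + 1)) (ConcreteCategory.congr_hom (HomologicalComplex.HomologySequence.δ_naturality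
      (S.mapNatTrans (refineTrans f)) hC (shortExact_cx Y hS) p (p + 1) rfl) x)

theorem edgeSh_refine (he : CechEdge.IsEdge J Y e) (he' : CechEdge.IsEdge J Y' e') (F : Sheaf J AddCommGrpCat.{u}) (p : ℕ)
    (x : CohCx.cechH F.obj Y' p) :
    CechEdge.edgeSh e F p ((HomologicalComplex.homologyMap (CohCx.cechRefine F.obj f) p).hom x) =
      CechEdge.edgeSh e' F p x := by
  rw [← edge_refine f he he']
  rfl

end Groth.Agent.EdgeMap
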